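import Groth.Agent.CechBCh.Basic
import Groth.Agent.CechShRes.Push

/-!
# Base change of the relative Cech complex
-/

set_option autoImplicit false
set_option backward.isDefEq.respectTransparency false
set_option backward.isDefEq.respectTransparency.types false
set_option linter.style.haveILetI false
set_option synthInstance.maxHeartbeats 400000

universe u

open CategoryTheory CategoryTheory.Limits AlgebraicGeometry Opposite TopologicalSpace TensorProduct

attribute [local instance] CategoryTheory.Abelian.hasFiniteBiproducts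

namespace Groth.Agent.CechBCh

open Groth.Agent.QCoh Groth.Agent.CechShRes

variable {X S X' S' : Scheme.{u}} {f : X ⟶ S} {g : S' ⟶ S} {g' : X' ⟶ X} {f' : X' ⟶ S'}

/-- The two composite direct images of a commutative square. -/
noncomputable def sqIso (w : g' ≫ f = f' ≫ g) :
    Scheme.Modules.pushforward g' ⋙ Scheme.Modules.pushforward f ≅
      Scheme.Modules.pushforward f' ⋙ Scheme.Modules.pushforward g :=
  Scheme.Modules.pushforwardComp g' f ≪≫ Scheme.Modules.pushforwardCongr w ≪≫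
    (Scheme.Modules.pushforwardComp f' g).symm

variable {F : X.Modules} {F' : X'.Modules} (η : F ⟶ (Scheme.Modules.pushforward g').obj F')

/-- The adjoint base change map on one term. -/
noncomputable def alphaW (w : g' ≫ f = f' ≫ g) {W : X.Opens} {W' : X'.Opens} (hW : W' ≤ g' ⁻¹ᵁ W) :
    (Scheme.Modules.pushforward f).obj ((CechOX.pushRestr W).obj F) ⟶
      (Scheme.Modules.pushforward g).obj ((Scheme.Modules.pushforward f').obj ((CechOX.pushRestr W').obj F')) :=
  (Scheme.Modules.pushforward f).map (psiW g' η hW) ≫ (sqIso w).hom.app _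

theorem secMap_sq (w : g' ≫ f = f' ≫ g) {G : X.Modules} {M : X'.Modules}
    (ψ : G ⟶ (Scheme.Modules.pushforward g').obj M) {U : S.Opens} {W₀ : S'.Opens} (hle : W₀ ≤ g ⁻¹ᵁ U)
    (h : f' ⁻¹ᵁ W₀ ≤ g' ⁻¹ᵁ (f ⁻¹ᵁ U)) (x : Γ(G, f ⁻¹ᵁ U)) :
    (show Γ(M, f' ⁻¹ᵁ W₀) from secMap g ((Scheme.Modules.pushforward f).map ψ ≫ (sqIso w).hom.app M) hle
      (show Γ((Scheme.Modules.pushforward f).obj G, U) from x)) = secMap g' ψ h x := by
  have e : g' ⁻¹ᵁ (f ⁻¹ᵁ U) = f' ⁻¹ᵁ (g ⁻¹ᵁ U) := by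
    rw [← Scheme.Hom.comp_preimage, ← Scheme.Hom.comp_preimage, w]
  let z : Γ(M, g' ⁻¹ᵁ (f ⁻¹ᵁ U)) := ψ.app (f ⁻¹ᵁ U) x
  show M.presheaf.map (homOfLE (f'.preimage_mono hle)).op (M.presheaf.map (eqToHom e.symm).op z) =
    M.presheaf.map (homOfLE h).op z
  exact QCoh.map_map (M := M) (homOfLE (f'.preimage_mono hle)) (eqToHom e.symm) z

theorem secMap_psiW {W : X.Opens} {W' : X'.Opens} (hW : W' ≤ g' ⁻¹ᵁ W) {V : X.Opens} {V' : X'.Opens}
    (h : V' ≤ g' ⁻¹ᵁ V) (x : Γ(F, (CechOX.interFun W).obj V))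
    (h₂ : (CechOX.interFun W').obj V' ≤ g' ⁻¹ᵁ ((CechOX.interFun W).obj V)) :
    (show Γ(F', (CechOX.interFun W').obj V') from secMap g' (psiW g' η hW) h
      (show Γ((CechOX.pushRestr W).obj F, V) from x)) = secMap g' η h₂ x := by
  let z : Γ(F', (CechOX.interFun W').obj (g' ⁻¹ᵁ V)) := secMap g' η (inter_le g' hW V) x
  show F'.presheaf.map ((CechOX.interFun W').map (homOfLE h)).op z = _
  exact QCoh.map_map (M := F') _ _ _

theorem secMap_alphaW (w : g' ≫ f = f' ≫ g) {W : X.Opens} {W' : X'.Opens} (hW : W' ≤ g' ⁻¹ᵁ W) {U : S.Opens}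
    {W₀ : S'.Opens} (hle : W₀ ≤ g ⁻¹ᵁ U) (x : Γ(F, (CechOX.interFun W).obj (f ⁻¹ᵁ U)))
    (h : (CechOX.interFun W').obj (f' ⁻¹ᵁ W₀) ≤ g' ⁻¹ᵁ ((CechOX.interFun W).obj (f ⁻¹ᵁ U))) :
    (show Γ(F', (CechOX.interFun W').obj (f' ⁻¹ᵁ W₀)) from secMap g (alphaW η w hW) hle
      (show Γ((Scheme.Modules.pushforward f).obj ((CechOX.pushRestr W).obj F), U) from x)) =
      secMap g' η h x :=
  (secMap_sq w (psiW g' η hW) hle ((f'.preimage_mono hle).trans
    (by rw [← Scheme.Hom.comp_preimage, ← Scheme.Hom.comp_preimage, w])) x).trans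
    (secMap_psiW η hW _ x h)

variable (sq : IsPullback g' f' f g)
  (hη : ∀ (V : X.Opens), IsAffineOpen V → ∀ (V' : X'.Opens), IsAffineOpen V' →
    ∀ (hle : V' ≤ g' ⁻¹ᵁ V), CohBC.IsBCAt g' η V V' hle)

include sq in
theorem isAffineOpen_pre {U : S.Opens} (hU : IsAffineOpen U) {W₀ : S'.Opens} (hW₀ : IsAffineOpen W₀)
    (hle : W₀ ≤ g ⁻¹ᵁ U) {V : X.Opens} (hV : IsAffineOpen V) (h : V ≤ f ⁻¹ᵁ U) :
    IsAffineOpen (CohBC.pre g' f' V W₀) := by
  haveI : IsAffine _ := hU
  haveI : IsAffine _ := hW₀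
  haveI : IsAffine _ := hV
  exact .of_isIso (Scheme.Hom.isPullback_resLE sq hle h (UY := CohBC.pre g' f' V W₀) rfl).isoPullback.hom

include sq hη in
theorem isBCAt_alphaW [IsAffineHom (pullback.diagonal (terminal.from S))] {W : X.Opens} {W' : X'.Opens}
    (hWa : IsAffineOpen W) (hW : W' = g' ⁻¹ᵁ W) {U : S.Opens} (hU : IsAffineOpen U) {W₀ : S'.Opens}
    (hW₀ : IsAffineOpen W₀) (hle : W₀ ≤ g ⁻¹ᵁ U) :
    CohBC.IsBCAt g (alphaW (f := f) (f' := f') η sq.w hW.le) U W₀ hle := by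
  let V : X.Opens := (CechOX.interFun W).obj (f ⁻¹ᵁ U)
  let V' : X'.Opens := (CechOX.interFun W').obj (f' ⁻¹ᵁ W₀)
  have h : V ≤ f ⁻¹ᵁ U := (interFun_eq W _).trans_le inf_le_right
  have hV : IsAffineOpen V := by
    haveI : IsAffine (W : Scheme.{u}) := hWa
    haveI := isAffineHom_of_isAffine_of_affineDiag (W.ι ≫ f)
    exact (hU.preimage (W.ι ≫ f)).image_of_isOpenImmersion W.ι
  have hpre : V' = CohBC.pre g' f' V W₀ := by
    show (CechOX.interFun W').obj _ = g' ⁻¹ᵁ V ⊓ f' ⁻¹ᵁ W₀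
    rw [interFun_eq, show V = W ⊓ f ⁻¹ᵁ U from interFun_eq _ _, hW, Scheme.Hom.preimage_inf]
    refine le_antisymm (le_inf (le_inf inf_le_left (inf_le_right.trans ?_)) inf_le_right)
      (inf_le_inf_right _ inf_le_left)
    exact (f'.preimage_mono hle).trans
      (by rw [← Scheme.Hom.comp_preimage, ← Scheme.Hom.comp_preimage, sq.w])
  have hV' : IsAffineOpen V' := hpre ▸ isAffineOpen_pre sq hU hW₀ hle hV h
  have hR : V' ≤ f' ⁻¹ᵁ W₀ := (interFun_eq W' _).trans_le inf_le_right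
  have hg : V' ≤ g' ⁻¹ᵁ V := hpre.trans_le inf_le_left
  have hpo := (isIso_pushoutSection_iff sq hle h (UY := V') hpre).mp
    (isIso_pushoutSection_of_isAffineOpen sq hle h hpre hU hW₀ hV)
  letI aUW : Algebra Γ(S, U) Γ(S', W₀) := (g.appLE U W₀ hle).hom.toAlgebra
  let P := (Scheme.Modules.pushforward f).obj ((CechOX.pushRestr W).obj F)
  let Q := (Scheme.Modules.pushforward f').obj ((CechOX.pushRestr W').obj F')
  letI : Module Γ(S, U) Γ(Q, W₀) := Module.compHom _ (g.appLE U W₀ hle).hom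
  haveI : IsScalarTower Γ(S, U) Γ(S', W₀) Γ(Q, W₀) := .of_algebraMap_smul fun _ _ => rfl
  show ∀ l : Γ(P, U) →ₗ[Γ(S, U)] Γ(Q, W₀), (∀ x, l x = secMap g (alphaW η sq.w hW.le) hle x) →
    IsBaseChange Γ(S', W₀) l
  intro l hl
  letI : Algebra Γ(S, U) Γ(X, V) := (f.appLE U V h).hom.toAlgebra
  letI : Algebra Γ(S', W₀) Γ(X', V') := (f'.appLE W₀ V' hR).hom.toAlgebra
  letI : Algebra Γ(X, V) Γ(X', V') := (g'.appLE V V' hg).hom.toAlgebra
  letI : Algebra Γ(S, U) Γ(X', V') := (f.appLE U V h ≫ g'.appLE V V' hg).hom.toAlgebra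
  haveI : IsScalarTower Γ(S, U) Γ(X, V) Γ(X', V') := .of_algebraMap_eq fun _ => rfl
  haveI : IsScalarTower Γ(S, U) Γ(S', W₀) Γ(X', V') := .of_algebraMap_eq fun r =>
    CohBC.appLE_square g g' f' sq.w hle h hg hR r
  haveI : Algebra.IsPushout Γ(S, U) Γ(S', W₀) Γ(X, V) Γ(X', V') := by
    refine CommRingCat.isPushout_iff_isPushout.mp ?_
    exact hpo.flip
  letI := CohBC.secMod f h F
  letI := CohBC.secMod f' hR F'
  letI : Module Γ(S, U) Γ(F', V') := Module.compHom _ (g.appLE U W₀ hle).hom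
  haveI : IsScalarTower Γ(S, U) Γ(S', W₀) Γ(F', V') := .of_algebraMap_smul fun _ _ => rfl
  haveI : IsScalarTower Γ(S, U) Γ(X, V) Γ(F, V) := .of_algebraMap_smul fun _ _ => rfl
  haveI : IsScalarTower Γ(S', W₀) Γ(X', V') Γ(F', V') := .of_algebraMap_smul fun _ _ => rfl
  letI : Module Γ(X, V) Γ(F', V') := Module.compHom _ (g'.appLE V V' hg).hom
  haveI : IsScalarTower Γ(X, V) Γ(X', V') Γ(F', V') := .of_algebraMap_smul fun _ _ => rfl
  let lX : Γ(F, V) →ₗ[Γ(X, V)] Γ(F', V') :=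
    { toFun := secMap g' η hg
      map_add' := secMap_add g' η _
      map_smul' := CohBC.secMap_smul_appLE g' η _ }
  let l' : Γ(F, V) →ₗ[Γ(S, U)] Γ(F', V') :=
    { toFun := secMap g' η hg
      map_add' := secMap_add g' η _
      map_smul' := fun r x => by
        rw [RingHom.id_apply, ← algebraMap_smul Γ(X, V) r x, CohBC.secMap_smul_appLE,
          ← algebraMap_smul Γ(S', W₀) r (secMap g' η hg x),
          ← algebraMap_smul Γ(X', V') (algebraMap Γ(S, U) Γ(S', W₀) r) (secMap g' η hg x),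
          RingHom.algebraMap_toAlgebra, RingHom.algebraMap_toAlgebra, RingHom.algebraMap_toAlgebra,
          CohBC.appLE_square g g' f' sq.w hle h hg hR] }
  have hb : IsBaseChange Γ(S', W₀) l' :=
    isBaseChange_of_isPushout lX (hη V hV V' hV' hg lX fun _ => rfl) l' fun _ => rfl
  let eP : Γ(P, U) ≃ₗ[Γ(S, U)] Γ(F, V) :=
    { toFun := fun x => (show Γ(F, V) from x)
      invFun := fun x => (show Γ(P, U) from x)
      left_inv := fun _ => rfl
      right_inv := fun _ => rfl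
      map_add' := fun _ _ => rfl
      map_smul' := fun r x => (pushRestr_smul W F (f ⁻¹ᵁ U) (f.app U r) x).trans rfl }
  let eQ : Γ(F', V') ≃ₗ[Γ(S', W₀)] Γ(Q, W₀) := LinearEquiv.symm
    { toFun := fun x => (show Γ(F', V') from x)
      invFun := fun x => (show Γ(Q, W₀) from x)
      left_inv := fun _ => rfl
      right_inv := fun _ => rfl
      map_add' := fun _ _ => rfl
      map_smul' := fun r x => (pushRestr_smul W' F' (f' ⁻¹ᵁ W₀) (f'.app W₀ r) x).trans rfl }
  refine IsBaseChange.of_equiv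
    ((AlgebraTensorModule.congr (LinearEquiv.refl Γ(S', W₀) Γ(S', W₀)) eP).trans (hb.equiv.trans eQ)) fun x => ?_
  show eQ (hb.equiv ((1 : Γ(S', W₀)) ⊗ₜ[Γ(S, U)] eP x)) = l x
  rw [IsBaseChange.equiv_tmul, one_smul, hl x]
  exact (secMap_alphaW η sq.w hW.le hle (eP x) hg).symm

include sq hη in
theorem isIso_transpose_alphaW [IsAffineHom (pullback.diagonal (terminal.from S))] (hF : Coh.IsQCoh F)
    {W : X.Opens} {W' : X'.Opens} (hWa : IsAffineOpen W) (hW : W' = g' ⁻¹ᵁ W) :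
    IsIso (((Scheme.Modules.pullbackPushforwardAdjunction g).homEquiv _ _).symm
      (alphaW (f := f) (f' := f') η sq.w hW.le)) :=
  CohBC.isIso_transpose g _ (isQCoh_push_pushRestr f W hWa F hF)
    fun _ hU _ hW₀ hle => isBCAt_alphaW η sq hη hWa hW hU hW₀ hle

variable {ι : Type u} (𝒰 : ι → X.Opens)

/-- The adjoint base change map of relative Cech complexes. -/
noncomputable def alphaCech (w : g' ≫ f = f' ≫ g) (p : ℕ) :
    ((CechOX.relCech 𝒰 f).obj F).X p ⟶
      (Scheme.Modules.pushforward g).obj (((CechOX.relCech (fun k => g' ⁻¹ᵁ 𝒰 k) f').obj F').X p) :=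
  (Scheme.Modules.pushforward f).map (psiCech g' η 𝒰 p) ≫ (sqIso w).hom.app _

/-- The base change map of relative Cech complexes. -/
noncomputable def betaCech (w : g' ≫ f = f' ≫ g) [(Scheme.Modules.pullback g).Additive] :
    ((Scheme.Modules.pullback g).mapHomologicalComplex (ComplexShape.up ℕ)).obj ((CechOX.relCech 𝒰 f).obj F) ⟶
      (CechOX.relCech (fun k => g' ⁻¹ᵁ 𝒰 k) f').obj F' where
  f p := ((Scheme.Modules.pullbackPushforwardAdjunction g).homEquiv _ _).symm (alphaCech η 𝒰 w p)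
  comm' p q hpq := by
    obtain rfl : p + 1 = q := hpq
    refine (Adjunction.homEquiv_naturality_right_symm _ _ _).symm.trans
      (Eq.trans ?_ (Adjunction.homEquiv_naturality_left_symm _ _ _))
    refine congrArg ((Scheme.Modules.pullbackPushforwardAdjunction g).homEquiv _ _).symm ?_
    let C' := (CechOX.cechSh fun k => g' ⁻¹ᵁ 𝒰 k).obj F'
    let C := (CechOX.cechSh 𝒰).obj F
    show ((Scheme.Modules.pushforward f).map (psiCech g' η 𝒰 p) ≫ (sqIso w).hom.app _) ≫
        (Scheme.Modules.pushforward f' ⋙ Scheme.Modules.pushforward g).map (C'.d p (p + 1)) =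
      (Scheme.Modules.pushforward f).map (C.d p (p + 1)) ≫
        (Scheme.Modules.pushforward f).map (psiCech g' η 𝒰 (p + 1)) ≫ (sqIso w).hom.app _
    rw [Category.assoc, ← (sqIso w).hom.naturality, Functor.comp_map, ← Functor.map_comp_assoc,
      ← Functor.map_comp_assoc, psiCech_comm]

lemma alphaCech_π (w : g' ≫ f = f' ≫ g) (p : ℕ) (i : Fin (p + 1) → ι) :
    alphaCech η 𝒰 w p ≫ (Scheme.Modules.pushforward g).map ((Scheme.Modules.pushforward f').map
        (Pi.π (fun i : Fin (p + 1) → ι => (CechOX.pushRestr (∏ᶜ fun a => g' ⁻¹ᵁ 𝒰 (i a))).obj F') i)) =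
      (Scheme.Modules.pushforward f).map
          (Pi.π (fun i : Fin (p + 1) → ι => (CechOX.pushRestr (∏ᶜ fun a => 𝒰 (i a))).obj F) i) ≫
        alphaW η w (piObj_le g' 𝒰 i) := by
  show ((Scheme.Modules.pushforward f).map (psiCech g' η 𝒰 p) ≫ (sqIso w).hom.app _) ≫
      (Scheme.Modules.pushforward f' ⋙ Scheme.Modules.pushforward g).map _ =
    (Scheme.Modules.pushforward f).map _ ≫
      (Scheme.Modules.pushforward f).map (psiW g' η (piObj_le g' 𝒰 i)) ≫ (sqIso w).hom.app _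
  rw [Category.assoc, ← (sqIso w).hom.naturality, Functor.comp_map, ← Functor.map_comp_assoc,
    ← Functor.map_comp_assoc, psiCech_π]

include sq hη in
theorem isIso_betaCech [IsAffineHom (pullback.diagonal (terminal.from X))]
    [IsAffineHom (pullback.diagonal (terminal.from S))] [Finite ι] (hF : Coh.IsQCoh F)
    (h𝒰 : ∀ i, IsAffineOpen (𝒰 i)) [(Scheme.Modules.pullback g).Additive] :
    IsIso (betaCech (f := f) (f' := f') η 𝒰 sq.w) := by
  haveI : ∀ p, IsIso ((betaCech (f := f) (f' := f') η 𝒰 sq.w).f p) := fun p => by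
    let T := fun i : Fin (p + 1) → ι => (CechOX.pushRestr (∏ᶜ fun a => 𝒰 (i a))).obj F
    let T' := fun i : Fin (p + 1) → ι => (CechOX.pushRestr (∏ᶜ fun a => g' ⁻¹ᵁ 𝒰 (i a))).obj F'
    let adj := Scheme.Modules.pullbackPushforwardAdjunction g
    haveI : ∀ i, IsIso ((adj.homEquiv _ _).symm (alphaW (f := f) (f' := f') η sq.w (piObj_le g' 𝒰 i))) :=
      fun i => isIso_transpose_alphaW η sq hη hF
        (isAffineOpen_piObj p (fun a => 𝒰 (i a)) fun a => h𝒰 _) (piObj_eq g' 𝒰 i)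
    let G := Scheme.Modules.pushforward f ⋙ Scheme.Modules.pullback g
    let e := PreservesProduct.iso G T ≪≫ asIso (Limits.Pi.map fun i =>
        ((adj.homEquiv _ _).symm (alphaW (f := f) (f' := f') η sq.w (piObj_le g' 𝒰 i)))) ≪≫
      (PreservesProduct.iso (Scheme.Modules.pushforward f') T').symm
    have he : (betaCech (f := f) (f' := f') η 𝒰 sq.w).f p = e.hom := by
      rw [← cancel_mono (PreservesProduct.iso (Scheme.Modules.pushforward f') T').hom]
      refine Pi.hom_ext _ _ fun i => ?_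
      have h1 : e.hom ≫ (PreservesProduct.iso (Scheme.Modules.pushforward f') T').hom =
          (PreservesProduct.iso G T).hom ≫ Limits.Pi.map (fun i =>
            (adj.homEquiv _ _).symm (alphaW (f := f) (f' := f') η sq.w (piObj_le g' 𝒰 i))) := by
        simp only [e, Iso.trans_hom, Iso.symm_hom, Category.assoc, Iso.inv_hom_id, Category.comp_id, asIso_hom]
      rw [h1, Category.assoc, Category.assoc, PreservesProduct.iso_hom, PreservesProduct.iso_hom,
        piComparison_comp_π, Limits.Pi.map_π, piComparison_comp_π_assoc]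
      refine (Adjunction.homEquiv_naturality_right_symm _ _ _).symm.trans ?_
      refine (congrArg (adj.homEquiv _ _).symm (alphaCech_π η 𝒰 sq.w p i)).trans ?_
      refine (Adjunction.homEquiv_naturality_left_symm _ _ _).trans ?_
      rfl
    rw [he]
    infer_instance
  exact HomologicalComplex.Hom.isIso_of_components _

end Groth.Agent.CechBCh
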