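import Groth.Agent.CechShRes.Basic
import Groth.Agent.CohBC.Qis

/-!
# The comparison map of Cech complexes of sheaves along a morphism
-/

set_option autoImplicit false
set_option backward.isDefEq.respectTransparency false
set_option backward.isDefEq.respectTransparency.types false
set_option linter.style.haveILetI false
set_option synthInstance.maxHeartbeats 400000

universe u

open CategoryTheory CategoryTheory.Limits AlgebraicGeometry Opposite TopologicalSpace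

namespace Groth.Agent.CechBCh

open Groth.Agent.QCoh Groth.Agent.CechShRes

variable {X X' : Scheme.{u}} (g' : X' ⟶ X)

lemma interFun_eq (W V : X.Opens) : (CechOX.interFun W).obj V = W ⊓ V := by
  show W.ι ''ᵁ (W.ι ⁻¹ᵁ V) = _
  rw [Scheme.Hom.image_preimage_eq_opensRange_inf, Scheme.Opens.opensRange_ι]

variable {W : X.Opens} {W' : X'.Opens}

lemma inter_le (hW : W' ≤ g' ⁻¹ᵁ W) (V : X.Opens) :
    (CechOX.interFun W').obj (g' ⁻¹ᵁ V) ≤ g' ⁻¹ᵁ ((CechOX.interFun W).obj V) := by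
  rw [interFun_eq, interFun_eq]
  exact inf_le_inf hW le_rfl

variable {F : X.Modules} {F' : X'.Modules} (η : F ⟶ (Scheme.Modules.pushforward g').obj F')

lemma pushRestr_smul {X : Scheme.{u}} (W : X.Opens) (G : X.Modules) (V : X.Opens) (r : Γ(X, V))
    (m : Γ((CechOX.pushRestr W).obj G, V)) :
    (show Γ(G, (CechOX.interFun W).obj V) from r • m) =
      X.presheaf.map (homOfLE ((interFun_eq W V).trans_le inf_le_right)).op r •
        (show Γ(G, (CechOX.interFun W).obj V) from m) := by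
  show (W.ι.appIso (W.ι ⁻¹ᵁ V)).inv (W.ι.app V r) • (show Γ(G, W.ι ''ᵁ (W.ι ⁻¹ᵁ V)) from m) = _
  rw [show (W.ι.appIso (W.ι ⁻¹ᵁ V)).inv (W.ι.app V r) = _ from ConcreteCategory.congr_hom (W.ι.app_appIso_inv V) r]
  rfl

/-- The map of sections along `η`, restricted, as a map of presheaves. -/
noncomputable def psiPre (hW : W' ≤ g' ⁻¹ᵁ W) :
    ((CechOX.pushRestr W).obj F).presheaf ⟶
      ((Scheme.Modules.pushforward g').obj ((CechOX.pushRestr W').obj F')).presheaf where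
  app V := AddCommGrpCat.ofHom (AddMonoidHom.mk'
    (fun s => secMap g' η (inter_le g' hW V.unop) (show Γ(F, (CechOX.interFun W).obj V.unop) from s))
    (fun a b => secMap_add g' η _ a b))
  naturality {A B} i := by
    ext s
    show secMap g' η (inter_le g' hW B.unop) (F.presheaf.map ((CechOX.interFun W).map i.unop).op s) =
      F'.presheaf.map ((CechOX.interFun W').map ((Opens.map g'.base).map i.unop)).op
        (secMap g' η (inter_le g' hW A.unop) s)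
    refine (secMap_map g' η _ _ _).trans ?_
    unfold secMap
    exact (map_map (M := F') _ _ _).symm

/-- `(j_W)_*(F|_W) ⟶ g'_* (j_{W'})_*(F'|_{W'})` along `η`, for `W'` over `W`. -/
noncomputable def psiW (hW : W' ≤ g' ⁻¹ᵁ W) :
    (CechOX.pushRestr W).obj F ⟶ (Scheme.Modules.pushforward g').obj ((CechOX.pushRestr W').obj F') :=
  ⟨PresheafOfModules.homMk (psiPre g' η hW) (fun V r m => by
      obtain ⟨V⟩ := V
      change ↑(Γ(X, V)) at r
      change secMap g' η (inter_le g' hW V) (show Γ(F, (CechOX.interFun W).obj V) from r • m) =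
        (show Γ(F', (CechOX.interFun W').obj (g' ⁻¹ᵁ V)) from g'.app V r •
          (show Γ((CechOX.pushRestr W').obj F', g' ⁻¹ᵁ V) from
            secMap g' η (inter_le g' hW V) (show Γ(F, (CechOX.interFun W).obj V) from m)))
      rw [pushRestr_smul, pushRestr_smul, CohBC.secMap_smul_appLE]
      congr 1
      exact (ConcreteCategory.congr_hom (g'.map_appLE (inter_le g' hW V)
        (homOfLE ((interFun_eq W V).trans_le inf_le_right)).op) r).trans
        (ConcreteCategory.congr_hom (g'.app_eq_appLE (U := V)) r ▸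
          (ConcreteCategory.congr_hom (g'.appLE_map (le_refl (g' ⁻¹ᵁ V))
            (homOfLE ((interFun_eq W' (g' ⁻¹ᵁ V)).trans_le inf_le_right)).op) r).symm))⟩

lemma psiW_app (hW : W' ≤ g' ⁻¹ᵁ W) (V : X.Opens) (s : Γ(F, (CechOX.interFun W).obj V)) :
    (show Γ(F', (CechOX.interFun W').obj (g' ⁻¹ᵁ V)) from (psiW g' η hW).app V s) =
      secMap g' η (inter_le g' hW V) s := rfl

variable {ι : Type u} (𝒰 : ι → X.Opens)

lemma piObj_le {n : ℕ} (i : Fin n → ι) :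
    (∏ᶜ fun a => g' ⁻¹ᵁ 𝒰 (i a)) ≤ g' ⁻¹ᵁ (∏ᶜ fun a => 𝒰 (i a)) := by
  intro x hx
  have h1 : ∀ a, g' x ∈ 𝒰 (i a) := fun a => (Pi.π (fun a => g' ⁻¹ᵁ 𝒰 (i a)) a).le hx
  let O : X.Opens := ⟨⋂ a, (𝒰 (i a) : Set X), isOpen_iInter_of_finite fun a => (𝒰 (i a)).2⟩
  exact (Pi.lift fun a => homOfLE (show O ≤ 𝒰 (i a) from fun y hy => Set.mem_iInter.1 hy a)).le
    (show g' x ∈ O from Set.mem_iInter.2 h1)

lemma piObj_eq {n : ℕ} (i : Fin n → ι) :
    (∏ᶜ fun a => g' ⁻¹ᵁ 𝒰 (i a)) = g' ⁻¹ᵁ (∏ᶜ fun a => 𝒰 (i a)) :=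
  le_antisymm (piObj_le g' 𝒰 i)
    (Pi.lift fun a => homOfLE (g'.preimage_mono (Pi.π (fun a => 𝒰 (i a)) a).le)).le

/-- The comparison of the degree `p` terms. -/
noncomputable def psiCech (p : ℕ) : ((CechOX.cechSh 𝒰).obj F).X p ⟶
    (Scheme.Modules.pushforward g').obj (((CechOX.cechSh fun k => g' ⁻¹ᵁ 𝒰 k).obj F').X p) :=
  (Limits.Pi.map fun i : Fin (p + 1) → ι => psiW g' η (piObj_le g' 𝒰 i)) ≫
    (PreservesProduct.iso (Scheme.Modules.pushforward g')
      fun i : Fin (p + 1) → ι => (CechOX.pushRestr (∏ᶜ fun a => g' ⁻¹ᵁ 𝒰 (i a))).obj F').inv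

lemma psiCech_π (p : ℕ) (i : Fin (p + 1) → ι) :
    psiCech g' η 𝒰 p ≫ (Scheme.Modules.pushforward g').map
        (Pi.π (fun i : Fin (p + 1) → ι => (CechOX.pushRestr (∏ᶜ fun a => g' ⁻¹ᵁ 𝒰 (i a))).obj F') i) =
      Pi.π (fun i : Fin (p + 1) → ι => (CechOX.pushRestr (∏ᶜ fun a => 𝒰 (i a))).obj F) i ≫
        psiW g' η (piObj_le g' 𝒰 i) := by
  refine (Category.assoc _ _ _).trans ?_
  rw [show (PreservesProduct.iso (Scheme.Modules.pushforward g') fun i : Fin (p + 1) → ι =>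
      (CechOX.pushRestr (∏ᶜ fun a => g' ⁻¹ᵁ 𝒰 (i a))).obj F').inv ≫ (Scheme.Modules.pushforward g').map
      (Pi.π _ i) = Pi.π _ i from (Iso.inv_comp_eq _).2 (piComparison_comp_π _ _ i).symm]
  exact Limits.Pi.map_π _ i

lemma comp_psiCech (p : ℕ) (i : Fin (p + 1) → ι) (V : X.Opens) (s : Γ(((CechOX.cechSh 𝒰).obj F).X p, V)) :
    comp F' (fun k => g' ⁻¹ᵁ 𝒰 k) p i (g' ⁻¹ᵁ V) ((psiCech g' η 𝒰 p).app V s) =
      secMap g' η (inter_le g' (piObj_le g' 𝒰 i) V) (comp F 𝒰 p i V s) :=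
  congr(($(psiCech_π g' η 𝒰 p i)).app V s)

lemma secMap_res {V V₁ : X.Opens} (i : V₁ ≤ V) {A B : X'.Opens} (hA : A ≤ g' ⁻¹ᵁ V) (hB : B ≤ g' ⁻¹ᵁ V₁)
    (hBA : B ≤ A) (x : Γ(F, V)) :
    secMap g' η hB (res F i x) = res F' hBA (secMap g' η hA x) := by
  refine (secMap_map g' η _ _ _).trans ?_
  unfold secMap res
  exact (map_map (M := F') _ _ _).symm

lemma psiCech_comm (p : ℕ) :
    psiCech g' η 𝒰 p ≫ (Scheme.Modules.pushforward g').map
        (((CechOX.cechSh fun k => g' ⁻¹ᵁ 𝒰 k).obj F').d p (p + 1)) =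
      ((CechOX.cechSh 𝒰).obj F).d p (p + 1) ≫ psiCech g' η 𝒰 (p + 1) := by
  refine Scheme.Modules.hom_ext _ _ fun V => ?_
  ext s
  refine comp_ext F' (fun k => g' ⁻¹ᵁ 𝒰 k) fun i => ?_
  refine (comp_d F' (fun k => g' ⁻¹ᵁ 𝒰 k) i (g' ⁻¹ᵁ V) ((psiCech g' η 𝒰 p).app V s)).trans ?_
  refine Eq.trans ?_ (comp_psiCech g' η 𝒰 (p + 1) i V ((((CechOX.cechSh 𝒰).obj F).d p (p + 1)).app V s)).symm
  rw [comp_d]
  let ev : Γ(F, carrier 𝒰 i V) →+ Γ(F', carrier (fun k => g' ⁻¹ᵁ 𝒰 k) i (g' ⁻¹ᵁ V)) :=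
    AddMonoidHom.mk' (secMap g' η (inter_le g' (piObj_le g' 𝒰 i) V)) fun a b => secMap_add g' η _ a b
  refine Eq.trans ?_ (map_sum ev _ _).symm
  refine Finset.sum_congr rfl fun j _ => ?_
  rw [map_zsmul ev, comp_psiCech]
  congr 1
  exact (secMap_res g' η _ _ _ _ _).symm

end Groth.Agent.CechBCh
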