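import Groth.Agent.CechBCh.BC

/-!
# Relative Cech complexes of coverings affine over the base
-/

set_option autoImplicit false
set_option backward.isDefEq.respectTransparency false
set_option backward.isDefEq.respectTransparency.types false
set_option linter.style.haveILetI false

universe u

open CategoryTheory CategoryTheory.Limits AlgebraicGeometry TopologicalSpace

attribute [local instance] HasDerivedCategory.standard CategoryTheory.Abelian.hasFiniteBiproducts

namespace Groth.Agent.CechBCh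

open Groth.Agent.CechShRes

variable {X S : Scheme.{u}} (f : X ⟶ S) {ι : Type u} [Finite ι] (𝒰 : ι → X.Opens)

/-- The relative Cech complex computes the derived direct image, for intersections affine over both schemes. -/
theorem nonempty_rpush_iso' (hcov : ⨆ i, 𝒰 i = ⊤) (F : X.Modules) (hF : Coh.IsQCoh F)
    (hX : ∀ (p : ℕ) (i : Fin (p + 1) → ι), IsAffineHom (∏ᶜ fun a => 𝒰 (i a) : X.Opens).ι)
    (hS : ∀ (p : ℕ) (i : Fin (p + 1) → ι), IsAffineHom ((∏ᶜ fun a => 𝒰 (i a) : X.Opens).ι ≫ f))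
    [DCoh.HasRpush f] :
    Nonempty (DCoh.toD S (CechOX.relCechZ 𝒰 f F) ≅ (DCoh.Rpush f).obj (DCoh.inD X F)) := by
  haveI := KFlatLib.hasInjectiveResolutions_modules (X := X)
  haveI := SpObjSS.enoughInjectives_of_hasInjectiveResolutions (C := X.Modules)
  haveI := quasiIso_augCx 𝒰 hcov F
  have hac : ∀ p, TriCat.IsRightAcyclic (Scheme.Modules.pushforward f) (((CechOX.cechSh 𝒰).obj F).X p) := by
    intro p
    show TriCat.IsRightAcyclic (Scheme.Modules.pushforward f) (∏ᶜ fun i : Fin (p + 1) → ι =>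
      (CechOX.pushRestr (∏ᶜ fun a => 𝒰 (i a))).obj F)
    refine isRightAcyclic_piObj _ _ fun i q hq => ?_
    obtain ⟨q, rfl⟩ := Nat.exists_eq_succ_of_ne_zero hq.ne'
    let W : X.Opens := ∏ᶜ fun a => 𝒰 (i a)
    haveI := KFlatLib.hasInjectiveResolutions_modules (X := (W : Scheme.{u}))
    haveI := hX p i
    haveI := hS p i
    exact isRightAcyclic_push_push W.ι f q _
      (fun r hr => PicGlue.isZero_Rpush_of_isAffineHom W.ι _ (QCoh.isQCoh_restrict _ hF) r hr)
      (fun r hr => PicGlue.isZero_Rpush_of_isAffineHom (W.ι ≫ f) _ (QCoh.isQCoh_restrict _ hF) r hr)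
  let C := CechOX.cechShZ 𝒰 F
  haveI := KFlatLib.isIso_rpushUnit_of_isStrictlyGE f C 0 fun n => by
    by_cases hn : ∃ p, ComplexShape.embeddingUpNat.f p = n
    · obtain ⟨p, hp⟩ := hn
      exact fun i hi => (hac p i hi).of_iso
        (((Scheme.Modules.pushforward f).rightDerived i).mapIso (HomologicalComplex.extendXIso _ _ hp))
    · exact fun i hi => Functor.map_isZero _
        (HomologicalComplex.isZero_extend_X _ _ n fun p hp => hn ⟨p, hp⟩)
  let e₁ : DerivedCategory.Q.obj C ≅ DCoh.inD X F :=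
    (asIso (DerivedCategory.Q.map (HomologicalComplex.extendMap (augCx 𝒰 F) ComplexShape.embeddingUpNat))).symm ≪≫
      DerivedCategory.Q.mapIso (HomologicalComplex.extendSingleIso ComplexShape.embeddingUpNat F 0 0 rfl) ≪≫
      ((DerivedCategory.singleFunctorIsoCompQ X.Modules 0).app F).symm
  exact ⟨DerivedCategory.Q.mapIso (mapExtendIso (Scheme.Modules.pushforward f) ((CechOX.cechSh 𝒰).obj F)).symm ≪≫
    asIso ((KFlatLib.rpushUnit f).app C) ≪≫ (DCoh.Rpush f).mapIso e₁⟩

theorem isAffineHom_preimage {X' S' : Scheme.{u}} {f : X ⟶ S} {g : S' ⟶ S} {g' : X' ⟶ X} {f' : X' ⟶ S'}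
    (sq : IsPullback g' f' f g) {W : X.Opens} [IsAffineHom W.ι] [IsAffineHom (W.ι ≫ f)] :
    IsAffineHom (g' ⁻¹ᵁ W).ι ∧ IsAffineHom ((g' ⁻¹ᵁ W).ι ≫ f') := by
  have h := isPullback_morphismRestrict g' W
  exact ⟨MorphismProperty.of_isPullback (P := @IsAffineHom) h ‹IsAffineHom W.ι›,
    MorphismProperty.of_isPullback (P := @IsAffineHom) (h.paste_vert sq) ‹IsAffineHom (W.ι ≫ f)›⟩

end Groth.Agent.CechBCh
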